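import Groth.Agent.Lib.FEt21.PunctSections
import Groth.Agent.Lib.FlatExt.Basic
import Groth.Agent.Lib.EssEtLoc.BranchCriterion
import Groth.Agent.Lib.Dim.Ring
import Groth.Agent.S4564
import Mathlib

/-!
# Components of dimension at least two go up along flat maps from complete rings
-/

set_option autoImplicit false
universe u

open IsLocalRing TensorProduct

namespace GrothLib.CTwo1

theorem ringKrullDim_localization_quotient_le {C : Type u} [CommRing C] (n : Ideal C) [n.IsPrime] (q : Ideal C) :
    ringKrullDim (Localization.AtPrime n ⧸ q.map (algebraMap C (Localization.AtPrime n))) ≤ ringKrullDim (C ⧸ q) := by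
  rw [ringKrullDim_quotient, ringKrullDim_quotient]
  refine Order.krullDim_le_of_strictMono
    (fun P => ⟨PrimeSpectrum.comap (algebraMap C (Localization.AtPrime n)) P.1,
      fun x hx => P.2 (Ideal.mem_map_of_mem _ hx)⟩) fun P Q h => ?_
  refine lt_of_le_of_ne (fun x hx => h.le hx) fun heq => h.ne (Subtype.ext ?_)
  exact (PrimeSpectrum.localization_comap_injective (Localization.AtPrime n) n.primeCompl)
    (congrArg Subtype.val heq)

theorem two_le_ringKrullDim_quotient {A B : Type u} [CommRing A] [CommRing B]
    [IsLocalRing A] [IsNoetherianRing A] [IsAdicComplete (maximalIdeal A) A]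
    [IsLocalRing B] [IsNoetherianRing B] [Algebra A B] [IsLocalHom (algebraMap A B)] [Module.Flat A B]
    (hA : ∀ p ∈ minimalPrimes A, (2 : WithBot ℕ∞) ≤ ringKrullDim (A ⧸ p))
    (q : Ideal B) (hq : q ∈ minimalPrimes B) : (2 : WithBot ℕ∞) ≤ ringKrullDim (B ⧸ q) := by
  haveI := hq.1.1
  set p := q.comap (algebraMap A B) with hp
  have hpm : p ∈ minimalPrimes A := GrothLib.EssEtLoc.comap_mem_minimalPrimes hq
  let D := A ⧸ p
  haveI : IsLocalRing D := IsLocalRing.of_surjective' (Ideal.Quotient.mk p) Ideal.Quotient.mk_surjective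
  have hmD : maximalIdeal D = (maximalIdeal A).map (algebraMap A D) :=
    (IsLocalRing.eq_maximalIdeal (Ideal.IsMaximal.map_of_surjective_of_ker_le Ideal.Quotient.mk_surjective
      (by rw [Ideal.mk_ker]; exact IsLocalRing.le_maximalIdeal hpm.1.1.ne_top))).symm
  haveI : IsAdicComplete (maximalIdeal D) D := by
    have h1 : IsAdicComplete (maximalIdeal A) D := GrothLib.AdicLim.isAdicComplete_of_finite (maximalIdeal A) D
    rw [← IsAdicComplete.map_algebraMap_iff (S := D)] at h1
    rwa [hmD]
  haveI : Algebra.EssFiniteType D (FractionRing D) :=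
    Algebra.EssFiniteType.of_isLocalization _ (nonZeroDivisors D)
  haveI : IsReduced (TensorProduct D D (FractionRing D)) :=
    isReduced_of_injective _ (Algebra.TensorProduct.lid D (FractionRing D)).injective
  haveI : Module.Finite D (integralClosure D (FractionRing D)) :=
    GrothLib.N2.finite_integralClosure_of_faithfullyFlat (B := D)
      (GrothLib.Cohen.isNagata_of_isAdicComplete D)
  obtain ⟨hloc, -⟩ := Groth.Agent.S4564.result (A := D) (K' := FractionRing D)
  let D' := integralClosure D (FractionRing D)
  haveI : IsLocalRing D' := hloc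
  haveI : IsNoetherianRing D' := IsNoetherianRing.of_finite D _
  haveI : IsIntegrallyClosed D' := integralClosure.isIntegrallyClosedOfFiniteExtension (FractionRing D)
  have hinjD : Function.Injective (algebraMap D D') := fun x y h =>
    IsFractionRing.injective D (FractionRing D) (congrArg Subtype.val h)
  have hdim : (2 : WithBot ℕ∞) ≤ ringKrullDim D' := by
    rw [GrothLib.Dim.ringKrullDim_eq_of_isIntegral hinjD]; exact hA p hpm
  have hdepth := GrothLib.FEt21.two_le_depth_of_normal D' hdim
  haveI : Module.Finite A D' := Module.Finite.trans D D'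
  let B'' := B ⊗[A] D'
  haveI : IsNoetherianRing B'' := IsNoetherianRing.of_finite B B''
  -- the kernel of `B → B''` lies in `q`
  let ι : B →ₐ[B] B'' := Algebra.ofId B B''
  have hker : RingHom.ker (algebraMap B B'') ≤ q := by
    intro b hb
    have hinj : Function.Injective
        (LinearMap.lTensor B ((IsScalarTower.toAlgHom A D D').toLinearMap)) :=
      Module.Flat.lTensor_preserves_injective_linearMap _ hinjD
    have h1 : b ⊗ₜ[A] (1 : D) = 0 := hinj (by
      rw [map_zero, LinearMap.lTensor_tmul]
      show b ⊗ₜ[A] (algebraMap D D' 1) = 0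
      rw [map_one]
      exact hb)
    rw [← map_one (Ideal.Quotient.mk p)] at h1
    have h2 := congrArg (Algebra.TensorProduct.quotIdealMapEquivTensorQuot B p).symm h1
    rw [map_zero, Algebra.TensorProduct.quotIdealMapEquivTensorQuot_symm_tmul] at h2
    have h3 : b ∈ p.map (algebraMap A B) := by
      rw [← Ideal.Quotient.eq_zero_iff_mem]
      simpa using h2
    exact Ideal.map_comap_le h3
  have hqk : q ∈ ((⊥ : Ideal B'').comap (algebraMap B B'')).minimalPrimes :=
    ⟨⟨inferInstance, hker⟩, fun r hr hle => hq.2 ⟨hr.1, bot_le⟩ hle⟩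
  obtain ⟨q'', hq'', hq''q⟩ := Ideal.exists_minimalPrimes_comap_eq (algebraMap B B'') q hqk
  haveI := hq''.1.1
  obtain ⟨n, hn, hqn⟩ := Ideal.exists_le_maximal q'' hq''.1.1.ne_top
  let T := Localization.AtPrime n
  letI : Algebra D' B'' := Algebra.TensorProduct.rightAlgebra
  haveI : Module.Flat D' B'' := by
    let c := Algebra.TensorProduct.comm A D' B
    let e : (D' ⊗[A] B) ≃ₗ[D'] B'' := LinearEquiv.ofBijective
      { toFun := c
        map_add' := map_add c
        map_smul' := fun r x => by
          show c (r • x) = algebraMap D' B'' r * c x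
          rw [Algebra.smul_def, map_mul]
          rfl } c.bijective
    exact Module.Flat.of_linearEquiv e.symm
  haveI : IsScalarTower D' B'' T := inferInstance
  haveI : Module.Flat B'' T := IsLocalization.flat T n.primeCompl
  haveI : Module.Flat D' T := Module.Flat.trans D' B'' T
  have hnD : n.comap (algebraMap D' B'') = maximalIdeal D' := by
    have hsq : (algebraMap B B'').comp (algebraMap A B) = (algebraMap D' B'').comp (algebraMap A D') := by
      refine RingHom.ext fun a => ?_
      show algebraMap A B a ⊗ₜ[A] (1 : D') = (1 : B) ⊗ₜ[A] algebraMap A D' a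
      rw [Algebra.algebraMap_eq_smul_one, Algebra.algebraMap_eq_smul_one, TensorProduct.smul_tmul]
    haveI : (n.comap (algebraMap B B'')).IsMaximal := Ideal.isMaximal_comap_of_isIntegral_of_isMaximal n
    have h1 : (n.comap (algebraMap D' B'')).comap (algebraMap A D') = maximalIdeal A := by
      rw [Ideal.comap_comap, ← hsq, ← Ideal.comap_comap,
        IsLocalRing.eq_maximalIdeal (I := n.comap (algebraMap B B'')) inferInstance,
        IsLocalRing.maximalIdeal_comap]
    refine IsLocalRing.eq_maximalIdeal (Ideal.isMaximal_of_isIntegral_of_isMaximal_comap (R := A) _ ?_)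
    rw [h1]; infer_instance
  haveI : IsLocalHom (algebraMap D' T) := by
    refine ⟨fun x hx => ?_⟩
    by_contra h
    have hxn : algebraMap D' B'' x ∈ n := by
      rw [← Ideal.mem_comap, hnD]; exact h
    exact ((IsLocalization.AtPrime.isUnit_to_map_iff T n (algebraMap D' B'' x)).1 hx) hxn
  have hT : (2 : ℕ∞) ≤ LocCoh.depth T T := hdepth.trans (GrothLib.FlatExt.depth_le_of_flat_local D' T)
  have hdisj : Disjoint (n.primeCompl : Set B'') q'' := Set.disjoint_left.2 fun x hx hx' => hx (hqn hx')
  have hqT : q''.map (algebraMap B'' T) ∈ minimalPrimes T := by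
    refine ⟨⟨IsLocalization.isPrime_of_isPrime_disjoint n.primeCompl T q'' inferInstance hdisj, bot_le⟩,
      fun r hr hle => ?_⟩
    haveI := hr.1
    rw [← IsLocalization.map_comap n.primeCompl T r]
    refine Ideal.map_mono (hq''.2 ⟨inferInstance, bot_le⟩ ?_)
    exact (Ideal.comap_mono hle).trans
      (IsLocalization.comap_map_of_isPrime_disjoint n.primeCompl T hq''.1.1 hdisj).le
  have hass : q''.map (algebraMap B'' T) ∈ associatedPrimes T T := by
    refine Module.associatedPrimes.minimalPrimes_annihilator_subset_associatedPrimes T T ?_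
    rw [Module.annihilator_eq_bot.2 inferInstance]
    exact hqT
  haveI : Algebra.IsIntegral B B'' := inferInstance
  haveI : q''.LiesOver q := ⟨hq''q.symm⟩
  haveI : Algebra.IsIntegral (B ⧸ q) (B'' ⧸ q'') := inferInstance
  refine (WithBot.coe_le_coe.2 hT).trans ((GrothLib.Depth.depth_le_dim_quotient hass).trans
    ((ringKrullDim_localization_quotient_le n q'').trans ?_))
  exact GrothLib.Dim.ringKrullDim_le_of_isIntegral (B ⧸ q) (B'' ⧸ q'')

end GrothLib.CTwo1
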